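import Mathlib.Algebra.Homology.DerivedCategory.Ext.Map
import Mathlib.Algebra.Homology.DerivedCategory.Ext.ExactSequences
import Mathlib.Algebra.Homology.DerivedCategory.Ext.EnoughInjectives
import Mathlib.Algebra.Homology.DerivedCategory.Ext.ExtClass
import Mathlib.CategoryTheory.Abelian.Injective.Dimension

/-! Naturality in the functor of the action of exact functors on `Ext`. -/

set_option autoImplicit false
set_option maxHeartbeats 800000
universe w w' v v' u u'

open CategoryTheory CategoryTheory.Limits CategoryTheory.Abelian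

namespace Groth.Agent.ExtNatLib

variable {C : Type u} [Category.{v} C] [Abelian C] [HasExt.{w} C] [EnoughInjectives C]
  {D : Type u'} [Category.{v'} D] [Abelian D] [HasExt.{w'} D]
  (F G : C ⥤ D) [F.Additive] [PreservesFiniteLimits F] [PreservesFiniteColimits F]
  [G.Additive] [PreservesFiniteLimits G] [PreservesFiniteColimits G] (η : F ⟶ G)

theorem step {n : ℕ} {X : C} {S : ShortComplex C} (hS : S.ShortExact) (y : Ext X S.X₃ n)
    (ih : (y.mapExactFunctor F).comp (Ext.mk₀ (η.app S.X₃)) (add_zero n) =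
      (Ext.mk₀ (η.app X)).comp (y.mapExactFunctor G) (zero_add n)) :
    ((y.comp hS.extClass rfl).mapExactFunctor F).comp (Ext.mk₀ (η.app S.X₁)) (add_zero (n + 1)) =
      (Ext.mk₀ (η.app X)).comp ((y.comp hS.extClass rfl).mapExactFunctor G) (zero_add (n + 1)) := by
  have h1 : (hS.map_of_exact F).extClass.comp (Ext.mk₀ (η.app S.X₁)) (add_zero 1) =
      (Ext.mk₀ (η.app S.X₃)).comp (hS.map_of_exact G).extClass (zero_add 1) :=
    ShortComplex.ShortExact.extClass_naturality (hS.map_of_exact F) (hS.map_of_exact G)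
      { τ₁ := η.app S.X₁, τ₂ := η.app S.X₂, τ₃ := η.app S.X₃
        comm₁₂ := (η.naturality S.f).symm, comm₂₃ := (η.naturality S.g).symm }
  have eF := Ext.mapExactFunctor_extClass F hS
  have eG := Ext.mapExactFunctor_extClass G hS
  rw [Ext.mapExactFunctor_comp, Ext.mapExactFunctor_comp, eF, eG]
  calc _ = (y.mapExactFunctor F).comp ((hS.map_of_exact F).extClass.comp (Ext.mk₀ (η.app S.X₁)) (add_zero 1)) rfl :=
        Ext.comp_assoc_of_third_deg_zero (y.mapExactFunctor F) (hS.map_of_exact F).extClass _ _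
    _ = (y.mapExactFunctor F).comp ((Ext.mk₀ (η.app S.X₃)).comp (hS.map_of_exact G).extClass (zero_add 1)) rfl :=
        congrArg (fun z => Ext.comp (y.mapExactFunctor F) z rfl) h1
    _ = ((y.mapExactFunctor F).comp (Ext.mk₀ (η.app S.X₃)) (add_zero n)).comp (hS.map_of_exact G).extClass rfl :=
        (Ext.comp_assoc_of_second_deg_zero _ _ _ _).symm
    _ = ((Ext.mk₀ (η.app X)).comp (y.mapExactFunctor G) (zero_add n)).comp (hS.map_of_exact G).extClass rfl := by
        rw [ih]
    _ = _ := Ext.comp_assoc _ _ _ (zero_add n) rfl (by omega)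

theorem mapExactFunctor_naturality (n : ℕ) {X Y : C} (x : Ext X Y n) :
    (x.mapExactFunctor F).comp (Ext.mk₀ (η.app Y)) (add_zero n) =
      (Ext.mk₀ (η.app X)).comp (x.mapExactFunctor G) (zero_add n) := by
  induction n generalizing Y with
  | zero =>
    obtain ⟨f, rfl⟩ := (Ext.mk₀_bijective X Y).2 x
    rw [Ext.mapExactFunctor_mk₀, Ext.mapExactFunctor_mk₀, Ext.mk₀_comp_mk₀, Ext.mk₀_comp_mk₀, η.naturality]
  | succ n ih =>
    obtain ⟨J⟩ := EnoughInjectives.presentation Y
    let S : ShortComplex C := ShortComplex.mk J.f (cokernel.π J.f) (cokernel.condition _)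
    have hS : S.ShortExact :=
      { exact := ShortComplex.exact_of_g_is_cokernel _ (cokernelIsCokernel _) }
    haveI : Injective S.X₂ := J.injective
    obtain ⟨y, rfl⟩ : ∃ y : Ext X S.X₃ n, y.comp hS.extClass rfl = x :=
      Ext.covariant_sequence_exact₁ X hS x (Ext.eq_zero_of_injective (I := S.X₂) _) rfl
    exact step F G η hS y (ih y)

theorem mapExactFunctor_id (n : ℕ) {X Y : C} (x : Ext X Y n) :
    x.mapExactFunctor (𝟭 C) = x := by
  induction n generalizing Y with
  | zero =>
    obtain ⟨f, rfl⟩ := (Ext.mk₀_bijective X Y).2 x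
    rw [Ext.mapExactFunctor_mk₀]
    rfl
  | succ n ih =>
    obtain ⟨J⟩ := EnoughInjectives.presentation Y
    let S : ShortComplex C := ShortComplex.mk J.f (cokernel.π J.f) (cokernel.condition _)
    have hS : S.ShortExact :=
      { exact := ShortComplex.exact_of_g_is_cokernel _ (cokernelIsCokernel _) }
    haveI : Injective S.X₂ := J.injective
    obtain ⟨y, rfl⟩ : ∃ y : Ext X S.X₃ n, y.comp hS.extClass rfl = x :=
      Ext.covariant_sequence_exact₁ X hS x (Ext.eq_zero_of_injective (I := S.X₂) _) rfl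
    erw [Ext.mapExactFunctor_comp, ih, Ext.mapExactFunctor_extClass]
    rfl

end Groth.Agent.ExtNatLib
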